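import Cfsg.Agent.H999.ONIMThree
import Cfsg.Agent.H820.K6.ASix
import Cfsg.Agent.H525.AltK
import Cfsg.Agent.H697.Pk
import Cfsg.Agent.H319.LB.Stab

/-!
# S4879: the row O'N, `p = 3` (helper185)

`Q = P` of order 9, `C(P) / P = A₆`: four classes of orders 1, 2, 4, 5 and at most five classes of `3`-regular elements.
-/

set_option autoImplicit false

namespace Cfsg.Agent.H185.LB

open Subgroup Cfsg
open Cfsg.Spor (ON)
open Cfsg.Agent.H820.K6.ASix (A6 t1 t2 sgt1 sgt2 ct1 ct2)
open Cfsg.Agent.H697.Pk (PReg)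

universe u

/-- at most five classes of `3`-regular elements in `A₆` -/
theorem card_reg_A6 : Nat.card (PReg 3 A6) ≤ 5 := by
  classical
  have h7 : Nat.card (ConjClasses A6) ≤ 7 := Cfsg.Agent.H525.AltK.alt_six
  let pr : ConjClasses A6 → Prop := fun c => ∃ g : A6, ConjClasses.mk g = c ∧ ¬ 3 ∣ orderOf g
  have hsum : Nat.card {c // pr c} + Nat.card {c // ¬ pr c} = Nat.card (ConjClasses A6) := by
    rw [← Nat.card_sum]
    exact Nat.card_congr (Equiv.sumCompl pr)
  let a : A6 := ⟨t1, Equiv.Perm.mem_alternatingGroup.2 sgt1⟩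
  let b : A6 := ⟨t2, Equiv.Perm.mem_alternatingGroup.2 sgt2⟩
  have ha : orderOf a = 3 := by
    change orderOf (⟨t1, _⟩ : A6) = 3
    rw [Subgroup.orderOf_mk, ← Equiv.Perm.lcm_cycleType, ct1]
    decide
  have hb : orderOf b = 3 := by
    change orderOf (⟨t2, _⟩ : A6) = 3
    rw [Subgroup.orderOf_mk, ← Equiv.Perm.lcm_cycleType, ct2]
    decide
  have hna : ∀ x : A6, orderOf x = 3 → ¬ pr (ConjClasses.mk x) := by
    rintro x hx ⟨g, hg, hg3⟩
    obtain ⟨c, hc⟩ := isConj_iff.1 (ConjClasses.mk_eq_mk_iff_isConj.1 hg)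
    apply hg3
    have h1 : orderOf (c * g * c⁻¹) = orderOf g := by
      rw [← MulAut.conj_apply]
      exact orderOf_injective (MulAut.conj c).toMonoidHom (MulAut.conj c).injective g
    rw [hc, hx] at h1
    rw [← h1]
  have hne : (ConjClasses.mk a) ≠ ConjClasses.mk b := by
    intro h
    obtain ⟨c, hc⟩ := isConj_iff.1 (ConjClasses.mk_eq_mk_iff_isConj.1 h)
    have h1 : IsConj (t1 : Equiv.Perm (Fin 6)) t2 :=
      isConj_iff.2 ⟨(c : Equiv.Perm (Fin 6)), congrArg (fun z : A6 => (z : Equiv.Perm (Fin 6))) hc⟩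
    rw [Equiv.Perm.isConj_iff_cycleType_eq, ct1, ct2] at h1
    revert h1
    decide
  have h2 : 2 ≤ Nat.card {c // ¬ pr c} := by
    have : Nontrivial {c // ¬ pr c} :=
      ⟨⟨_, hna a ha⟩, ⟨_, hna b hb⟩, fun h => hne (congrArg Subtype.val h)⟩
    exact Finite.one_lt_card
  have h3 : Nat.card (PReg 3 A6) = Nat.card {c // pr c} := rfl
  omega

/-- `C(P)` maps onto `A₆` with kernel `P`. -/
theorem exists_hom : ∃ φ : ↥(centralizer (H999.ONThreeHyp.P : Set ON)) →* A6, Function.Surjective φ ∧ IsPGroup 3 φ.ker := by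
  have hfin := Cfsg.Agent.KFacts.ON.Cent.finite_ON
  have : Fact (Nat.Prime 3) := ⟨Nat.prime_three⟩
  have hyp := H999.ONThreeHyp.hyp
  have hn : (H999.ONThreeHyp.P.subgroupOf (ONType.OddCent.XX H999.ONThreeHyp.P)).Normal := hyp.normal
  have hs := hyp.simple_LL
  obtain ⟨e, -⟩ := hyp.exists_equiv
  have e1 : ONType.OddCent.LL H999.ONThreeHyp.P ≃* commutator (ONType.OddCent.XX H999.ONThreeHyp.P) :=
    ((commutator (ONType.OddCent.XX H999.ONThreeHyp.P)).equivMapOfInjective _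
      (ONType.OddCent.XX H999.ONThreeHyp.P).subtype_injective).symm
  obtain ⟨e'⟩ := Cfsg.Agent.Classification.Order360Iso.nonempty_mulEquiv_alternating
    (G := ONType.OddCent.LL H999.ONThreeHyp.P) hyp.card_LL
  let E := (e1.trans e).symm.trans e'
  let F : ↥(ONType.OddCent.XX H999.ONThreeHyp.P) →* A6 :=
    E.toMonoidHom.comp (QuotientGroup.mk' (H999.ONThreeHyp.P.subgroupOf (ONType.OddCent.XX H999.ONThreeHyp.P)))
  have hker : F.ker ≤ H999.ONThreeHyp.P.subgroupOf (ONType.OddCent.XX H999.ONThreeHyp.P) := by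
    intro x hx
    rw [MonoidHom.mem_ker] at hx
    have h1 : E (QuotientGroup.mk' _ x) = E 1 := hx.trans (map_one E).symm
    have h2 := E.injective h1
    rwa [QuotientGroup.mk'_apply, QuotientGroup.eq_one_iff] at h2
  have hF : Function.Surjective F := E.surjective.comp (QuotientGroup.mk'_surjective _)
  refine ⟨F, hF, ?_⟩
  · intro x
    refine ⟨1, ?_⟩
    apply Subtype.ext
    apply Subtype.ext
    have h1 := mem_subgroupOf.1 (hker x.2)
    have h2 := H999.ONThreeHyp.pow_three h1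
    rw [pow_one]
    exact h2

/-- The equivalence of centralizers. -/
theorem exists_data {S : Type u} [Group S] (e : Spor.IsoON S) :
    ∃ Q : Subgroup S, IsPGroup 3 Q ∧ ∃ φ : ↥(centralizer (Q : Set S)) →* A6,
      Function.Surjective φ ∧ IsPGroup 3 φ.ker := by
  obtain ⟨f⟩ := e
  obtain ⟨φ, hφ, hk⟩ := exists_hom
  have hmem : ∀ c : S, c ∈ centralizer ((H999.ONThreeHyp.P.comap f.toMonoidHom : Subgroup S) : Set S) ↔
      f c ∈ centralizer (H999.ONThreeHyp.P : Set ON) := by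
    intro c
    rw [mem_centralizer_iff, mem_centralizer_iff]
    constructor
    · intro h g hg
      have h1 := h (f.symm g) (by
        change f (f.symm g) ∈ H999.ONThreeHyp.P
        rw [f.apply_symm_apply]
        exact hg)
      have h2 := congrArg f h1
      rwa [map_mul, map_mul, f.apply_symm_apply] at h2
    · intro h g hg
      apply f.injective
      rw [map_mul, map_mul]
      exact h (f g) hg
  let ψ : ↥(centralizer ((H999.ONThreeHyp.P.comap f.toMonoidHom : Subgroup S) : Set S)) →*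
      ↥(centralizer (H999.ONThreeHyp.P : Set ON)) :=
    (f.toMonoidHom.comp (centralizer _).subtype).codRestrict _ fun c => (hmem c).1 c.2
  have hψ : Function.Surjective ψ := by
    rintro ⟨g, hg⟩
    refine ⟨⟨f.symm g, (hmem _).2 (by rw [f.apply_symm_apply]; exact hg)⟩, Subtype.ext ?_⟩
    exact f.apply_symm_apply g
  refine ⟨H999.ONThreeHyp.P.comap f.toMonoidHom, ?_, φ.comp ψ, hφ.comp hψ, ?_⟩
  · rintro ⟨g, hg⟩
    refine ⟨1, Subtype.ext ?_⟩
    apply f.injective
    have h1 := H999.ONThreeHyp.pow_three (x := f g) hg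
    rw [pow_one]
    change f (g ^ 3) = f 1
    rw [map_pow, h1, map_one]
  · rintro ⟨g, hg⟩
    obtain ⟨k, hk'⟩ := hk ⟨ψ g, hg⟩
    refine ⟨k, Subtype.ext (Subtype.ext ?_)⟩
    apply f.injective
    have h1 := congrArg Subtype.val (congrArg Subtype.val hk')
    change f ((g : S) ^ 3 ^ k) = f 1
    rw [map_pow, map_one]
    exact h1

/-- lifting an order through a homomorphism with `3`-kernel -/
theorem exists_order {C : Type*} [Group C] [Finite C] (φ : C →* A6) (hφ : Function.Surjective φ) (hk : IsPGroup 3 φ.ker)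
    {m : ℕ} (hm : m ∈ ({1, 2, 4, 5} : Finset ℕ)) : ∃ y : C, orderOf y = m := by
  have : Fact (Nat.Prime 3) := ⟨Nat.prime_three⟩
  obtain ⟨h3, y, hy⟩ := Cfsg.Agent.H820.K6.ASix.orders m hm
  obtain ⟨g, hg, hg3⟩ := Cfsg.Agent.H697.Pk.exists_lift (p := 3) φ hφ (q := y) (by rw [hy]; exact h3)
  refine ⟨g, Nat.dvd_antisymm ?_ ?_⟩
  · have h1 : g ^ m ∈ φ.ker := by
      rw [MonoidHom.mem_ker, map_pow, hg, ← hy, pow_orderOf_eq_one]
    obtain ⟨k, hk'⟩ := hk ⟨g ^ m, h1⟩
    have h2 : (g ^ m) ^ 3 ^ k = 1 := congrArg Subtype.val hk'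
    have h4 : orderOf g ∣ m * 3 ^ k := orderOf_dvd_of_pow_eq_one (by rw [pow_mul]; exact h2)
    exact (Nat.Coprime.pow_right k ((Nat.Prime.coprime_iff_not_dvd Nat.prime_three).2 hg3).symm).dvd_of_dvd_mul_right h4
  · rw [← hy, ← hg]
    exact orderOf_map_dvd φ g

/-- **The row O'N, `p = 3`.** -/
theorem on_row {M : Ideal AlgInt} (hM : IsPModular 3 M) {G : Type u} [Group G] [Finite G] (T : Subgroup G) [T.Normal]
    (e : Spor.IsoON T) : 3 ≤ blockRank 3 (principalBlock M G) := by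
  classical
  have h3F : Fact (Nat.Prime 3) := ⟨Nat.prime_three⟩
  obtain ⟨Q, hQ, φ, hφ, hk⟩ := exists_data e
  have hr : 4 ≤ blockRank 3 (principalBlock M ↥(centralizer (Q : Set ↥T))) :=
    (Cfsg.Agent.H820.K6.ASix.rank hM).trans (Cfsg.Agent.H820.K6.rank_le_of_surj hM φ hφ)
  have hc : Nat.card (PReg 3 ↥(centralizer (Q : Set ↥T))) ≤ 5 := by
    rw [← Cfsg.Agent.H697.Pk.card_quotient_eq φ.ker hk,
      Cfsg.Agent.H697.Pk.card_congr (QuotientGroup.quotientKerEquivOfSurjective φ hφ)]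
    exact card_reg_A6
  let o : Fin 4 → ℕ := ![1, 2, 4, 5]
  have ho : ∀ i, o i ∈ ({1, 2, 4, 5} : Finset ℕ) := by decide
  have ho3 : ∀ i, ¬ 3 ∣ o i := by decide
  have hinj : ∀ i j, o i = o j → i = j := by decide
  choose t ht using fun i => exists_order φ hφ hk (ho i)
  have h := Cfsg.Agent.H319.LB.stab hM T Q hQ t (fun i => by rw [ht i]; exact ho3 i) (fun i j hij h => by
    apply hij
    apply hinj
    obtain ⟨c, hc⟩ := isConj_iff.1 h
    have h1 : orderOf (c * (((t i : ↥(centralizer (Q : Set ↥T))) : ↥T) : G) * c⁻¹) =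
        orderOf (((t i : ↥(centralizer (Q : Set ↥T))) : ↥T) : G) := by
      rw [← MulAut.conj_apply]
      exact orderOf_injective (MulAut.conj c).toMonoidHom (MulAut.conj c).injective _
    rw [hc, Subgroup.orderOf_coe, Subgroup.orderOf_coe, Subgroup.orderOf_coe, Subgroup.orderOf_coe, ht, ht] at h1
    exact h1.symm)
  omega

end Cfsg.Agent.H185.LB
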